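import Mathlib
import Cfsg.Agent.H777.M5.Elim5Def
import Cfsg.Agent.ChevalleyStructure.FieldIso
import Cfsg.Agent.ChevalleyStructure.HMatDiagAll
import Cfsg.Agent.ChevalleyStructure.Elts

/-!
# Abelian 5-subgroups through an embedding (helper332, for helper777's S5232)
-/

set_option autoImplicit false

namespace Cfsg.Agent.H332.M5

open Subgroup Cfsg Cfsg.Lie
open Cfsg.Agent.H777.Elim5 (Vn5 Big5 Row5)

instance fact5 : Fact (Nat.Prime 5) := ⟨Nat.prime_five⟩

theorem card_mul_card_le {G : Type*} [Group G] [Finite G] {A B S : Subgroup G} (hA : A ≤ S) (hB : B ≤ S) :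
    Nat.card A * Nat.card B ≤ Nat.card S * Nat.card ↥(A ⊓ B) := by
  rw [inf_comm]
  have h1 : Nat.card ↥(B ⊓ A) * B.relIndex A = Nat.card A := by
    rw [← inf_relIndex_right]
    have := card_mul_index ((B ⊓ A).subgroupOf A)
    rwa [show Nat.card ↥((B ⊓ A).subgroupOf A) = Nat.card ↥(B ⊓ A) from
      Nat.card_congr (subgroupOfEquivOfLe inf_le_right).toEquiv] at this
  have h2 : Nat.card B * B.relIndex S = Nat.card S := by
    have := card_mul_index (B.subgroupOf S)
    rwa [show Nat.card ↥(B.subgroupOf S) = Nat.card B from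
      Nat.card_congr (subgroupOfEquivOfLe hB).toEquiv] at this
  have h3 : B.relIndex A ≤ B.relIndex S := relIndex_le_of_le_right hA (B.subgroupOf S).index_ne_zero_of_finite
  calc Nat.card A * Nat.card B = Nat.card ↥(B ⊓ A) * B.relIndex A * Nat.card B := by rw [h1]
    _ ≤ Nat.card ↥(B ⊓ A) * B.relIndex S * Nat.card B := by gcongr
    _ = Nat.card S * Nat.card ↥(B ⊓ A) := by rw [← h2]; ring

/-- Let `f : G → L` be injective, `5 ^ n` divides the order of `G`, and let `L` have an abelian subgroup `H` of order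
divisible by `5 ^ m`, where the 5-part of `|L|` is at most `5 ^ (m + w)`.  Then `G` has an abelian 5-subgroup of order at
least `5 ^ (n - w)`. -/
theorem big_of_emb {G L : Type*} [Group G] [Group L] [Finite G] [Finite L] (f : G →* L)
    (hf : Function.Injective f) {n m w : ℕ} (hn : 5 ^ n ∣ Nat.card G) (H : Subgroup L)
    (hab : ∀ x ∈ H, ∀ y ∈ H, x * y = y * x) (hH : 5 ^ m ∣ Nat.card H) (hL : ¬ 5 ^ (m + w + 1) ∣ Nat.card L)
    (hw : 5 + w ≤ n) : Big5 G := by
  -- a Sylow 5-subgroup of `G`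
  obtain ⟨P, hP⟩ := Sylow.exists_subgroup_card_pow_prime 5 hn
  obtain ⟨S, hS⟩ := Sylow.exists_subgroup_card_pow_prime 5 hH
  have hPp : IsPGroup 5 P := IsPGroup.of_card hP
  have hSp : IsPGroup 5 S := IsPGroup.of_card hS
  have hS' : Nat.card (S.map H.subtype) = 5 ^ m := by
    rw [Nat.card_congr (S.equivMapOfInjective H.subtype H.subtype_injective).toEquiv.symm, hS]
  have hP' : Nat.card (P.map f) = 5 ^ n := by
    rw [Nat.card_congr (P.equivMapOfInjective f hf).toEquiv.symm, hP]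
  obtain ⟨Q, hQ⟩ := (hSp.map H.subtype).exists_le_sylow
  obtain ⟨Q', hQ'⟩ := (hPp.map f).exists_le_sylow
  obtain ⟨g, rfl⟩ := MulAction.exists_smul_eq L Q Q'
  -- conjugate the torus
  set A : Subgroup L := (S.map H.subtype).map (MulAut.conj g).toMonoidHom with hA
  have hAab : ∀ x ∈ A, ∀ y ∈ A, x * y = y * x := by
    rintro _ ⟨_, ⟨x, _, rfl⟩, rfl⟩ _ ⟨_, ⟨y, _, rfl⟩, rfl⟩
    have h : x * y = y * x := Subtype.ext (hab _ x.2 _ y.2)
    simp only [← map_mul, h]
  have hAcard : Nat.card A = 5 ^ m := by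
    rw [hA, Nat.card_congr (Subgroup.equivMapOfInjective _ (MulAut.conj g).toMonoidHom
      (MulAut.conj g).injective).toEquiv.symm, hS']
  have hAQ : A ≤ (g • Q : Sylow 5 L) := by
    rw [Sylow.coe_subgroup_smul]
    rintro _ ⟨x, hx, rfl⟩
    exact Subgroup.smul_mem_pointwise_smul x (MulAut.conj g) _ (hQ hx)
  have hQcard : Nat.card (g • Q : Sylow 5 L) ≤ 5 ^ (m + w) := by
    obtain ⟨k, hk⟩ := IsPGroup.iff_card.1 (g • Q : Sylow 5 L).2
    have h1 : 5 ^ k ∣ Nat.card L := by
      rw [← hk]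
      exact Subgroup.card_subgroup_dvd_card _
    change Nat.card ↥((g • Q : Sylow 5 L) : Subgroup L) ≤ _
    rw [hk]
    apply Nat.pow_le_pow_right (by norm_num)
    by_contra hcon
    exact hL ((pow_dvd_pow 5 (by omega)).trans h1)
  -- intersection
  have hinter : 5 ^ (n - w) ≤ Nat.card ↥(A ⊓ P.map f) := by
    have h1 := card_mul_card_le hAQ hQ'
    rw [hAcard, hP'] at h1
    have h2 : 5 ^ m * 5 ^ n ≤ 5 ^ (m + w) * Nat.card ↥(A ⊓ P.map f) :=
      h1.trans (Nat.mul_le_mul_right _ hQcard)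
    have h3 : 5 ^ m * 5 ^ n = 5 ^ (m + w) * 5 ^ (n - w) := by
      rw [← pow_add, ← pow_add]; congr 1; omega
    rw [h3] at h2
    exact Nat.le_of_mul_le_mul_left h2 (by positivity)
  set B : Subgroup G := (A ⊓ P.map f).comap f with hB
  have hBP : B ≤ P := by
    intro x hx
    obtain ⟨y, hy, hxy⟩ := hx.2
    rwa [← hf hxy]
  refine ⟨B, hPp.to_le hBP, ?_, ?_⟩
  · intro x hx y hy
    apply hf
    rw [map_mul, map_mul]
    exact hAab _ hx.1 _ hy.1
  · have h1 : B.map f = A ⊓ P.map f := by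
      rw [hB, Subgroup.map_comap_eq, inf_eq_right.2]
      exact inf_le_right.trans (Subgroup.map_le_range f P)
    rw [← h1, Nat.card_congr (B.equivMapOfInjective f hf).toEquiv.symm] at hinter
    exact (Nat.pow_le_pow_right (by norm_num) (by omega)).trans hinter

/-! ### base change -/

theorem map_group_le (D : ChevalleyDatum) {F K : Type*} [Field F] [Field K] (φ : F →+* K) :
    (D.group F).map (Matrix.GeneralLinearGroup.map (n := D.Idx) φ) ≤ D.group K := by
  rw [ChevalleyDatum.group, MonoidHom.map_closure, ChevalleyDatum.group]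
  refine closure_mono ?_
  rintro _ ⟨h, ⟨r, t, hh⟩, rfl⟩
  refine ⟨r, φ t, ?_⟩
  change ((h : Matrix D.Idx D.Idx F)).map φ = _
  rw [hh]
  exact Cfsg.Agent.ChevalleyStructure.FieldIso.map_xMat D φ r t

/-- the base change homomorphism -/
noncomputable def baseChange (D : ChevalleyDatum) {F K : Type*} [Field F] [Field K] (φ : F →+* K) :
    ↥(D.group F) →* ↥(D.group K) :=
  ((Matrix.GeneralLinearGroup.map (n := D.Idx) φ).comp (D.group F).subtype).codRestrict (D.group K)
    fun x => map_group_le D φ ⟨x, x.2, rfl⟩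

theorem baseChange_injective (D : ChevalleyDatum) {F K : Type*} [Field F] [Field K] (φ : F →+* K) :
    Function.Injective (baseChange D φ) := by
  intro x y h
  have h1 := congrArg (fun g : ↥(D.group K) => ((g : GL D.Idx K) : Matrix D.Idx D.Idx K)) h
  change (((x : GL D.Idx F) : Matrix D.Idx D.Idx F)).map φ = (((y : GL D.Idx F) : Matrix D.Idx D.Idx F)).map φ at h1
  apply Subtype.ext
  apply Units.ext
  exact Matrix.map_injective φ.injective h1

theorem diag_comm {D : ChevalleyDatum} (hD : Cfsg.Agent.ChevalleyStructure.Elts.InList D) {K : Type*} [Field K]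
    {x y : GL D.Idx K} (hx : x ∈ D.diagonalSubgroup K) (hy : y ∈ D.diagonalSubgroup K) : x * y = y * x := by
  obtain ⟨χ, hχ⟩ := Cfsg.Agent.ChevalleyStructure.HMatDiagAll.mem_torus.1
    (Cfsg.Agent.ChevalleyStructure.HMatDiagAll.diagonalSubgroup_le_torus hD hx)
  obtain ⟨ψ, hψ⟩ := Cfsg.Agent.ChevalleyStructure.HMatDiagAll.mem_torus.1
    (Cfsg.Agent.ChevalleyStructure.HMatDiagAll.diagonalSubgroup_le_torus hD hy)
  apply Units.ext
  rw [Units.val_mul, Units.val_mul, hχ, hψ, Matrix.diagonal_mul_diagonal, Matrix.diagonal_mul_diagonal]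
  congr 1
  funext i
  exact mul_comm _ _

/-! ### the field -/

theorem not_dvd_card {F : Type*} [Field F] [Fintype F] (h5 : (5 : F) ≠ 0) : ¬ 5 ∣ Fintype.card F := by
  intro h
  obtain ⟨p, hp⟩ := CharP.exists F
  obtain ⟨k, hpr, hk⟩ := FiniteField.card F p
  rw [hk] at h
  have h4 := (Nat.prime_dvd_prime_iff_eq Nat.prime_five hpr).1 (Nat.prime_five.dvd_of_dvd_pow h)
  apply h5
  have h6 := CharP.cast_eq_zero F p
  rw [← h4] at h6
  exact_mod_cast h6

theorem exists_field {F : Type*} [Field F] [Fintype F] (h5 : (5 : F) ≠ 0) :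
    ∃ (K : Type) (_ : Field K) (_ : Fintype K) (_ : F →+* K), Fintype.card K % 5 = 1 := by
  obtain ⟨p, hp⟩ := CharP.exists F
  obtain ⟨k, hpr, hk⟩ := FiniteField.card F p
  have : Fact p.Prime := ⟨hpr⟩
  have : Fintype (FiniteField.Extension F p 4) := Fintype.ofFinite _
  refine ⟨FiniteField.Extension F p 4, inferInstance, inferInstance, algebraMap F (FiniteField.Extension F p 4), ?_⟩
  have h1 := FiniteField.natCard_extension F p 4
  rw [Nat.card_eq_fintype_card, Nat.card_eq_fintype_card] at h1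
  rw [h1, Nat.pow_mod]
  have h2 := not_dvd_card h5
  have h3 : Fintype.card F % 5 = 1 ∨ Fintype.card F % 5 = 2 ∨ Fintype.card F % 5 = 3 ∨ Fintype.card F % 5 = 4 := by omega
  rcases h3 with h | h | h | h <;> rw [h]

/-- **the embedding argument** -/
theorem big_chev {D : ChevalleyDatum} (hD : Cfsg.Agent.ChevalleyStructure.Elts.InList D) {w : ℕ}
    (hord : ∀ (K : Type) [Field K] [Fintype K], Fintype.card K % 5 = 1 →
      ∃ m, 5 ^ m ∣ Nat.card ↥(D.diagonalSubgroup K) ∧ ¬ 5 ^ (m + w + 1) ∣ Nat.card ↥(D.group K))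
    {F : Type*} [Field F] [Fintype F] (h5 : (5 : F) ≠ 0) {G : Type*} [Group G] (f : G →* ↥(D.group F))
    (hf : Function.Injective f) {n : ℕ} (hn : 5 ^ n ∣ Nat.card G) (hw : 5 + w ≤ n) : Big5 G := by
  obtain ⟨K, _, _, φ, hK⟩ := exists_field h5
  obtain ⟨m, h1, h2⟩ := hord K hK
  have : Finite G := Finite.of_injective f hf
  refine big_of_emb ((baseChange D φ).comp f) ((baseChange_injective D φ).comp hf) hn
    ((D.diagonalSubgroup K).subgroupOf (D.group K)) ?_ (m := m) ?_ h2 hw
  · intro x hx y hy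
    exact Subtype.ext (diag_comm hD hx hy)
  · rwa [Nat.card_congr (subgroupOfEquivOfLe
      (Cfsg.Agent.ChevalleyStructure.Elts.diagonal_le_group hD K)).toEquiv]

end Cfsg.Agent.H332.M5
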