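import Cfsg.Agent.H332.M5.Emb
import Cfsg.Agent.S1035
import Cfsg.Agent.S1059
import Cfsg.Agent.S1061
import Cfsg.Agent.S1062
import Cfsg.Agent.S1063
import Cfsg.Agent.S1064
import Cfsg.Agent.S1065
import Cfsg.Agent.S1066
import Cfsg.Agent.S1067
import Cfsg.Agent.S1068

/-!
# Exceptional groups of Lie type and the elimination for `p = 5` (helper332, task 2154 for helper777's S5232, S5230)
-/

set_option autoImplicit false

namespace Cfsg.Agent.H332.M5

open Subgroup Cfsg Cfsg.Lie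
open Cfsg.Agent.H777.Elim5 (Vn5 Big5 Row5)
open Cfsg.Agent.ChevalleyStructure.Elts (InList)

/-! ### arithmetic -/

section Num

/-- the 5-part of `n` is `5 ^ k` -/
def HV (n k : ℕ) : Prop := n ≠ 0 ∧ padicValNat 5 n = k

theorem HV.mul {n m k l : ℕ} (h : HV n k) (h' : HV m l) : HV (n * m) (k + l) :=
  ⟨mul_ne_zero h.1 h'.1, by rw [padicValNat.mul h.1 h'.1, h.2, h'.2]⟩

theorem HV.of_mul {n m k l : ℕ} (h : HV n k) (h' : HV (n * m) l) : HV m (l - k) := by
  have hm : m ≠ 0 := fun h0 => h'.1 (by rw [h0, mul_zero])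
  refine ⟨hm, ?_⟩
  have h2 := h'.2
  rw [padicValNat.mul h.1 hm, h.2] at h2
  omega

theorem HV.dvd {n k l : ℕ} (h : HV n k) (hl : l ≤ k) : 5 ^ l ∣ n :=
  (padicValNat_dvd_iff_le h.1).2 (by rw [h.2]; exact hl)

theorem HV.not_dvd {n k l : ℕ} (h : HV n k) (hl : k < l) : ¬ 5 ^ l ∣ n := fun h' => by
  have := (padicValNat_dvd_iff_le h.1).1 h'
  rw [h.2] at this
  omega

theorem hv_not {n : ℕ} (h : ¬ 5 ∣ n) : HV n 0 :=
  ⟨fun h0 => h (by rw [h0]; exact dvd_zero 5), padicValNat.eq_zero_of_not_dvd h⟩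

theorem HV.pow {n k : ℕ} (h : HV n k) (l : ℕ) : HV (n ^ l) (l * k) :=
  ⟨pow_ne_zero l h.1, by rw [padicValNat.pow, h.2]⟩

variable {q : ℕ}

/-- `q ≡ 1 mod 5` -/
theorem hv_one (hq : 1 < q) (h1 : q % 5 = 1) {k : ℕ} (hk : k ≠ 0) {l : ℕ} (hl : padicValNat 5 k = l) :
    HV (q ^ k - 1) (padicValNat 5 (q - 1) + l) := by
  refine ⟨?_, ?_⟩
  · have := Nat.one_lt_pow hk hq
    omega
  · have hd : 5 ∣ q - 1 := by omega
    have h := padicValNat.pow_sub_pow (p := 5) (by decide) (x := q) (y := 1) hq hd (by omega) hk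
    rwa [one_pow, hl] at h

theorem hv_q (h1 : q % 5 = 1) (k : ℕ) : HV (q ^ k) 0 := by
  have h := (hv_not (n := q) (by omega)).pow k
  rwa [mul_zero] at h

theorem val_2 : padicValNat 5 2 = 0 := padicValNat.eq_zero_of_not_dvd (by decide)
theorem val_4 : padicValNat 5 4 = 0 := padicValNat.eq_zero_of_not_dvd (by decide)
theorem val_5 : padicValNat 5 5 = 1 := padicValNat.self (by norm_num)
theorem val_6 : padicValNat 5 6 = 0 := padicValNat.eq_zero_of_not_dvd (by decide)
theorem val_8 : padicValNat 5 8 = 0 := padicValNat.eq_zero_of_not_dvd (by decide)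
theorem val_9 : padicValNat 5 9 = 0 := padicValNat.eq_zero_of_not_dvd (by decide)
theorem val_10 : padicValNat 5 10 = 1 := by
  rw [show 10 = 5 * 2 by norm_num, padicValNat.mul (by norm_num) (by norm_num), val_5, val_2]
theorem val_12 : padicValNat 5 12 = 0 := padicValNat.eq_zero_of_not_dvd (by decide)
theorem val_14 : padicValNat 5 14 = 0 := padicValNat.eq_zero_of_not_dvd (by decide)
theorem val_18 : padicValNat 5 18 = 0 := padicValNat.eq_zero_of_not_dvd (by decide)
theorem val_20 : padicValNat 5 20 = 1 := by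
  rw [show 20 = 5 * 4 by norm_num, padicValNat.mul (by norm_num) (by norm_num), val_5, val_4]
theorem val_24 : padicValNat 5 24 = 0 := padicValNat.eq_zero_of_not_dvd (by decide)
theorem val_30 : padicValNat 5 30 = 1 := by
  rw [show 30 = 5 * 6 by norm_num, padicValNat.mul (by norm_num) (by norm_num), val_5, val_6]

theorem hv_gcd {n m : ℕ} (hn : ¬ 5 ∣ n) : HV (Nat.gcd n m) 0 :=
  hv_not fun h => hn (h.trans (Nat.gcd_dvd_left _ _))

end Num

/-! ### the orders -/

section Ord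

variable (K : Type) [Field K] [Fintype K]

theorem torus_dvd {D : ChevalleyDatum} {d : ℕ} (hd : ¬ 5 ∣ d)
    (h : d * Nat.card ↥(D.diagonalSubgroup K) = (Fintype.card K - 1) ^ D.rank) (hK : Fintype.card K % 5 = 1) :
    5 ^ (D.rank * padicValNat 5 (Fintype.card K - 1)) ∣ Nat.card ↥(D.diagonalSubgroup K) := by
  have hq : 1 < Fintype.card K := Fintype.one_lt_card
  have h1 : HV ((Fintype.card K - 1) ^ D.rank) (D.rank * padicValNat 5 (Fintype.card K - 1)) :=
    HV.pow ⟨by omega, rfl⟩ _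
  rw [← h] at h1
  exact ((hv_not hd).of_mul h1).dvd (by omega)

theorem ord_G2 (hK : Fintype.card K % 5 = 1) : ∃ m, 5 ^ m ∣ Nat.card ↥(chevG2.diagonalSubgroup K) ∧
    ¬ 5 ^ (m + 0 + 1) ∣ Nat.card ↥(chevG2.group K) := by
  have hq : 1 < Fintype.card K := Fintype.one_lt_card
  refine ⟨_, torus_dvd K (d := 1) (by norm_num) (Cfsg.Agent.S1035.result rfl (chevG2, 1) (by simp)) hK, ?_⟩
  rw [Cfsg.Agent.S1059.result (F := K) rfl]
  refine (((hv_q hK 6).mul (hv_one hq hK two_ne_zero val_2)).mul (hv_one hq hK (by norm_num) val_6)).not_dvd ?_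
  change _ < 2 * _ + 0 + 1
  omega

theorem ord_F4 (hK : Fintype.card K % 5 = 1) : ∃ m, 5 ^ m ∣ Nat.card ↥(chevF4.diagonalSubgroup K) ∧
    ¬ 5 ^ (m + 0 + 1) ∣ Nat.card ↥(chevF4.group K) := by
  have hq : 1 < Fintype.card K := Fintype.one_lt_card
  refine ⟨_, torus_dvd K (d := 1) (by norm_num) (Cfsg.Agent.S1035.result rfl (chevF4, 1) (by simp)) hK, ?_⟩
  rw [Cfsg.Agent.S1062.result (F := K) rfl]
  refine (((((hv_q hK 24).mul (hv_one hq hK two_ne_zero val_2)).mul (hv_one hq hK (by norm_num) val_6)).mul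
    (hv_one hq hK (by norm_num) val_8)).mul (hv_one hq hK (by norm_num) val_12)).not_dvd ?_
  change _ < 4 * _ + 0 + 1
  omega

theorem ord_D4 (hK : Fintype.card K % 5 = 1) : ∃ m, 5 ^ m ∣ Nat.card ↥(chevD4.diagonalSubgroup K) ∧
    ¬ 5 ^ (m + 0 + 1) ∣ Nat.card ↥(chevD4.group K) := by
  have hq : 1 < Fintype.card K := Fintype.one_lt_card
  have hg : ¬ 5 ∣ Nat.gcd 2 (Fintype.card K - 1) ^ 2 := fun h =>
    (by norm_num : ¬ 5 ∣ 2) ((Nat.prime_five.dvd_of_dvd_pow h).trans (Nat.gcd_dvd_left _ _))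
  refine ⟨_, torus_dvd K hg (Cfsg.Agent.S1035.result rfl (chevD4, _) (by simp)) hK, ?_⟩
  have h := ((((hv_q hK 12).mul (hv_one hq hK two_ne_zero val_2)).mul (hv_one hq hK (by norm_num) val_4)).mul
    (hv_one hq hK (by norm_num) val_4)).mul (hv_one hq hK (by norm_num) val_6)
  rw [← Cfsg.Agent.S1061.result (F := K) rfl] at h
  refine ((hv_not hg).of_mul h).not_dvd ?_
  change _ < 4 * _ + 0 + 1
  omega

theorem ord_E6 (hK : Fintype.card K % 5 = 1) : ∃ m, 5 ^ m ∣ Nat.card ↥(chevE6.diagonalSubgroup K) ∧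
    ¬ 5 ^ (m + 1 + 1) ∣ Nat.card ↥(chevE6.group K) := by
  have hq : 1 < Fintype.card K := Fintype.one_lt_card
  have hg : ¬ 5 ∣ Nat.gcd 3 (Fintype.card K - 1) := fun h =>
    (by norm_num : ¬ 5 ∣ 3) (h.trans (Nat.gcd_dvd_left _ _))
  refine ⟨_, torus_dvd K hg (Cfsg.Agent.S1035.result rfl (chevE6, _) (by simp)) hK, ?_⟩
  have h := ((((((hv_q hK 36).mul (hv_one hq hK two_ne_zero val_2)).mul (hv_one hq hK (by norm_num) val_5)).mul
    (hv_one hq hK (by norm_num) val_6)).mul (hv_one hq hK (by norm_num) val_8)).mul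
    (hv_one hq hK (by norm_num) val_9)).mul (hv_one hq hK (by norm_num) val_12)
  rw [← Cfsg.Agent.S1063.result (F := K) rfl] at h
  refine ((hv_not hg).of_mul h).not_dvd ?_
  change _ < 6 * _ + 1 + 1
  omega

theorem ord_E7 (hK : Fintype.card K % 5 = 1) : ∃ m, 5 ^ m ∣ Nat.card ↥(chevE7.diagonalSubgroup K) ∧
    ¬ 5 ^ (m + 1 + 1) ∣ Nat.card ↥(chevE7.group K) := by
  have hq : 1 < Fintype.card K := Fintype.one_lt_card
  have hg : ¬ 5 ∣ Nat.gcd 2 (Fintype.card K - 1) := fun h =>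
    (by norm_num : ¬ 5 ∣ 2) (h.trans (Nat.gcd_dvd_left _ _))
  refine ⟨_, torus_dvd K hg (Cfsg.Agent.S1035.result rfl (chevE7, _) (by simp)) hK, ?_⟩
  have h := (((((((hv_q hK 63).mul (hv_one hq hK two_ne_zero val_2)).mul (hv_one hq hK (by norm_num) val_6)).mul
    (hv_one hq hK (by norm_num) val_8)).mul (hv_one hq hK (by norm_num) val_10)).mul
    (hv_one hq hK (by norm_num) val_12)).mul (hv_one hq hK (by norm_num) val_14)).mul
    (hv_one hq hK (by norm_num) val_18)
  rw [← Cfsg.Agent.S1064.result (F := K) rfl] at h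
  refine ((hv_not hg).of_mul h).not_dvd ?_
  change _ < 7 * _ + 1 + 1
  omega

theorem ord_E8 (hK : Fintype.card K % 5 = 1) : ∃ m, 5 ^ m ∣ Nat.card ↥(chevE8.diagonalSubgroup K) ∧
    ¬ 5 ^ (m + 2 + 1) ∣ Nat.card ↥(chevE8.group K) := by
  have hq : 1 < Fintype.card K := Fintype.one_lt_card
  refine ⟨_, torus_dvd K (d := 1) (by norm_num) (Cfsg.Agent.S1035.result rfl (chevE8, 1) (by simp)) hK, ?_⟩
  rw [Cfsg.Agent.S1065.result (F := K) rfl]
  refine (((((((((hv_q hK 120).mul (hv_one hq hK two_ne_zero val_2)).mul (hv_one hq hK (by norm_num) val_8)).mul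
    (hv_one hq hK (by norm_num) val_12)).mul (hv_one hq hK (by norm_num) val_14)).mul
    (hv_one hq hK (by norm_num) val_18)).mul (hv_one hq hK (by norm_num) val_20)).mul
    (hv_one hq hK (by norm_num) val_24)).mul (hv_one hq hK (by norm_num) val_30)).not_dvd ?_
  change _ < 8 * _ + 2 + 1
  omega

end Ord

/-! ### characteristic 5 -/

theorem dvd_of_Vn {K : Type*} [Group K] (h : Vn5 8 K ∨ Vn5 9 K) : 5 ^ 8 ∣ Nat.card K := by
  rcases h with h | h
  · exact h.1
  · exact (pow_dvd_pow 5 (by norm_num)).trans h.1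

theorem not_dvd_of_Vn {K : Type*} [Group K] (h : Vn5 8 K ∨ Vn5 9 K) : ¬ 5 ^ 10 ∣ Nat.card K := by
  rcases h with h | h
  · exact fun h' => h.2 ((pow_dvd_pow 5 (by norm_num)).trans h')
  · exact h.2

theorem card_char5 {F : Type*} [Field F] [Fintype F] (h5 : (5 : F) = 0) : ∃ f, 0 < f ∧ Fintype.card F = 5 ^ f := by
  obtain ⟨p, hp⟩ := CharP.exists F
  obtain ⟨k, hpr, hk⟩ := FiniteField.card F p
  have h1 : p ∣ 5 := (CharP.cast_eq_zero_iff F p 5).1 (by exact_mod_cast h5)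
  have h2 := (Nat.prime_dvd_prime_iff_eq hpr Nat.prime_five).1 h1
  subst h2
  exact ⟨k, k.pos, hk⟩

theorem pow_dvd_of_char5 {q f N : ℕ} (hf : 0 < f) (hq : q = 5 ^ f) (hN : 10 ≤ N) : 5 ^ 10 ∣ q ^ N := by
  rw [hq, ← pow_mul]
  exact pow_dvd_pow 5 (by nlinarith)

/-- the exceptional groups with at least 10 positive roots -/
theorem char5 {F : Type*} [Field F] [Fintype F] (h5 : (5 : F) = 0) {k q : ℕ} (_hk : k ≠ 0)
    (hq : Fintype.card F = q ^ k) {G : Type*} [Group G] {d N c : ℕ} (hd : ¬ 5 ∣ d)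
    (h : d * Nat.card G = q ^ N * c) (hN : 10 ≤ N) (hV : Vn5 8 G ∨ Vn5 9 G) : False := by
  obtain ⟨f, hf, hc⟩ := card_char5 h5
  have h5q : 5 ∣ q := by
    have h1 : 5 ∣ q ^ k := by
      rw [← hq, hc]
      exact dvd_pow_self 5 hf.ne'
    exact Nat.prime_five.dvd_of_dvd_pow h1
  have h2 : 5 ^ 10 ∣ d * Nat.card G := by
    rw [h]
    exact ((pow_dvd_pow_of_dvd h5q 10).trans (pow_dvd_pow q hN)).trans (dvd_mul_right _ _)
  refine not_dvd_of_Vn hV (Nat.Coprime.dvd_of_dvd_mul_left ?_ h2)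
  exact Nat.Coprime.pow_left 10 ((Nat.Prime.coprime_iff_not_dvd Nat.prime_five).2 hd)

/-! ### the rows -/

theorem genSubgroup_le {D : ChevalleyDatum} (hD : InList D) {F : Type*} [Field F] (W : Set (List (ℕ × F))) :
    D.genSubgroup F W ≤ D.group F := by
  unfold ChevalleyDatum.genSubgroup
  rw [Subgroup.closure_le]
  rintro g ⟨l, -, hg⟩
  rw [(Cfsg.Agent.ChevalleyStructure.Elts.eq_wordG_iff hD g l).2 hg]
  exact Cfsg.Agent.ChevalleyStructure.Elts.wordG_mem_group hD l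

section Rows

variable {F : Type*} [Field F] [Fintype F]

theorem row_G2 : Row5 ↥(chevG2.group F) := by
  intro hV
  by_cases h5 : (5 : F) = 0
  · exfalso
    obtain ⟨f, hf, hc⟩ := card_char5 h5
    have h : HV (Nat.card ↥(chevG2.group F)) (6 * f) := by
      rw [Cfsg.Agent.S1059.result (F := F) rfl, hc]
      have h1 : HV ((5 ^ f) ^ 6) (6 * f) := by
        rw [← pow_mul, mul_comm]
        exact ⟨by positivity, padicValNat.prime_pow _⟩
      have h2 : ∀ k, k ≠ 0 → HV ((5 ^ f) ^ k - 1) 0 := by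
        intro k hk
        apply hv_not
        have h3 : 5 ∣ (5 ^ f) ^ k := by
          rw [← pow_mul]
          exact dvd_pow_self 5 (Nat.mul_ne_zero hf.ne' hk)
        have h4 : 0 < (5 ^ f) ^ k := by positivity
        omega
      exact (h1.mul (h2 2 (by norm_num))).mul (h2 6 (by norm_num))
    have h1 := (padicValNat_dvd_iff_le h.1).1 (dvd_of_Vn hV)
    have h2 : ¬ (10 ≤ padicValNat 5 (Nat.card ↥(chevG2.group F))) := fun h' =>
      not_dvd_of_Vn hV ((padicValNat_dvd_iff_le h.1).2 h')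
    rw [h.2] at h1 h2
    omega
  · exact big_chev (D := chevG2) (w := 0) (by simp) (fun K _ _ hK => ord_G2 K hK) h5 (MonoidHom.id _) Function.injective_id
      (dvd_of_Vn hV) (by norm_num)

theorem row_F4 : Row5 ↥(chevF4.group F) := by
  intro hV
  by_cases h5 : (5 : F) = 0
  · exact (char5 h5 one_ne_zero (pow_one _).symm (d := 1) (N := 24) (by norm_num) (by
      rw [one_mul, Cfsg.Agent.S1062.result (F := F) rfl, mul_assoc, mul_assoc, mul_assoc]) (by norm_num) hV).elim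
  · exact big_chev (D := chevF4) (w := 0) (by simp) (fun K _ _ hK => ord_F4 K hK) h5 (MonoidHom.id _) Function.injective_id
      (dvd_of_Vn hV) (by norm_num)

theorem row_E6 : Row5 ↥(chevE6.group F) := by
  intro hV
  by_cases h5 : (5 : F) = 0
  · exact (char5 h5 one_ne_zero (pow_one _).symm (d := Nat.gcd 3 (Fintype.card F - 1)) (N := 36)
      (fun h => (by norm_num : ¬ 5 ∣ 3) (h.trans (Nat.gcd_dvd_left _ _))) (by
      rw [Cfsg.Agent.S1063.result (F := F) rfl, mul_assoc, mul_assoc, mul_assoc, mul_assoc, mul_assoc])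
      (by norm_num) hV).elim
  · exact big_chev (D := chevE6) (w := 1) (by simp) (fun K _ _ hK => ord_E6 K hK) h5 (MonoidHom.id _) Function.injective_id
      (dvd_of_Vn hV) (by norm_num)

theorem row_E7 : Row5 ↥(chevE7.group F) := by
  intro hV
  by_cases h5 : (5 : F) = 0
  · exact (char5 h5 one_ne_zero (pow_one _).symm (d := Nat.gcd 2 (Fintype.card F - 1)) (N := 63)
      (fun h => (by norm_num : ¬ 5 ∣ 2) (h.trans (Nat.gcd_dvd_left _ _))) (by
      rw [Cfsg.Agent.S1064.result (F := F) rfl, mul_assoc, mul_assoc, mul_assoc, mul_assoc, mul_assoc, mul_assoc])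
      (by norm_num) hV).elim
  · exact big_chev (D := chevE7) (w := 1) (by simp) (fun K _ _ hK => ord_E7 K hK) h5 (MonoidHom.id _) Function.injective_id
      (dvd_of_Vn hV) (by norm_num)

theorem row_E8 : Row5 ↥(chevE8.group F) := by
  intro hV
  by_cases h5 : (5 : F) = 0
  · exact (char5 h5 one_ne_zero (pow_one _).symm (d := 1) (N := 120) (by norm_num) (by
      rw [one_mul, Cfsg.Agent.S1065.result (F := F) rfl, mul_assoc, mul_assoc, mul_assoc, mul_assoc, mul_assoc,
        mul_assoc, mul_assoc]) (by norm_num) hV).elim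
  · exact big_chev (D := chevE8) (w := 2) (by simp) (fun K _ _ hK => ord_E8 K hK) h5 (MonoidHom.id _) Function.injective_id
      (dvd_of_Vn hV) (by norm_num)

theorem row_twE6 {q : ℕ} (hq : IsPrimePow q) (hK : Fintype.card F = q ^ 2) : Row5 ↥(twistedE6 F q) := by
  intro hV
  by_cases h5 : (5 : F) = 0
  · exact (char5 h5 two_ne_zero hK (d := Nat.gcd 3 (q + 1)) (N := 36)
      (fun h => (by norm_num : ¬ 5 ∣ 3) (h.trans (Nat.gcd_dvd_left _ _))) (by
      rw [Cfsg.Agent.S1066.result hq hK, mul_assoc, mul_assoc, mul_assoc, mul_assoc, mul_assoc])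
      (by norm_num) hV).elim
  · have hle : twistedE6 F q ≤ chevE6.group F := genSubgroup_le (by simp) _
    exact big_chev (D := chevE6) (w := 1) (by simp) (fun K _ _ hK => ord_E6 K hK) h5 (inclusion hle) (inclusion_injective hle)
      (dvd_of_Vn hV) (by norm_num)

theorem row_twD4 {q : ℕ} (hq : IsPrimePow q) (hK : Fintype.card F = q ^ 3) : Row5 ↥(twistedD4 F q) := by
  intro hV
  by_cases h5 : (5 : F) = 0
  · exact (char5 h5 three_ne_zero hK (d := 1) (N := 12) (by norm_num) (by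
      rw [one_mul, Cfsg.Agent.S1067.result hq hK, mul_assoc, mul_assoc]) (by norm_num) hV).elim
  · have hle : twistedD4 F q ≤ chevD4.group F := genSubgroup_le (by simp) _
    exact big_chev (D := chevD4) (w := 0) (by simp) (fun K _ _ hK => ord_D4 K hK) h5 (inclusion hle) (inclusion_injective hle)
      (dvd_of_Vn hV) (by norm_num)

theorem row_twF4 {m : ℕ} (hK : Fintype.card F = 2 ^ (2 * m + 1)) : Row5 ↥(twistedF4 F (2 ^ m)) := by
  intro hV
  by_cases h5 : (5 : F) = 0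
  · obtain ⟨f, hf, hc⟩ := card_char5 h5
    exfalso
    have h1 : 5 ∣ 2 ^ (2 * m + 1) := by
      rw [← hK, hc]
      exact dvd_pow_self 5 hf.ne'
    exact (by norm_num : ¬ 5 ∣ 2) (Nat.prime_five.dvd_of_dvd_pow h1)
  · have hle : twistedF4 F (2 ^ m) ≤ chevF4.group F := genSubgroup_le (by simp) _
    exact big_chev (D := chevF4) (w := 0) (by simp) (fun K _ _ hK => ord_F4 K hK) h5 (inclusion hle) (inclusion_injective hle)
      (dvd_of_Vn hV) (by norm_num)

end Rows

end Cfsg.Agent.H332.M5
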